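import Cfsg.Agent.Lib.CentClass.Bridge

/-!
If an elementary abelian group of order `q ^ 3` acts coprimely on a finite group and the fixed points of every
non-identity element have derived subgroup of order at most `m`, the derived subgroup is bounded in terms of
`q` and `m`: it is generated by boundedly many elements, and its centralizer has bounded index.
-/

set_option autoImplicit false

namespace CfsgLib.DerivedBound

open Subgroup CfsgLib.CentClass
open scoped commutatorElement Pointwise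

universe u
variable {Γ : Type u} [Group Γ] [Finite Γ] {q : ℕ} {A X : Subgroup Γ}

/-- The cosets of a subgroup containing the commutators multiply. -/
theorem relIndex_sup_le {ι : Type*} [DecidableEq ι] {K L : Subgroup Γ} (H : ι → Subgroup Γ) (hL : L ≤ K)
    (hH : ∀ i, H i ≤ K) (hab : ⁅K, K⁆ ≤ L) (s : Finset ι) :
    L.relIndex (L ⊔ s.sup H) ≤ ∏ i ∈ s, L.relIndex (H i) := by
  induction s using Finset.induction_on with
  | empty => simp
  | @insert i s hi ih =>
    set L' := L ⊔ s.sup H with hL'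
    have hL'K : L' ≤ K := sup_le hL (Finset.sup_le fun j _ => hH j)
    have e : L ⊔ (insert i s).sup H = L' ⊔ H i := by
      rw [Finset.sup_insert, hL', sup_comm (H i), sup_assoc]
    have hn : (L'.subgroupOf K).Normal := (normal_subgroupOf_iff_le_normalizer hL'K).mpr
      (le_normalizer_iff_commutator_le_left.mpr
        (((commutator_mono hL'K le_rfl).trans hab).trans le_sup_left))
    have h1 : L'.relIndex (L' ⊔ H i) = L'.relIndex (H i) := by
      rw [← relIndex_subgroupOf (sup_le hL'K (hH i)), subgroupOf_sup hL'K (hH i), relIndex_sup_left,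
        relIndex_subgroupOf (hH i)]
    rw [e, ← relIndex_mul_relIndex L L' _ le_sup_left le_sup_left, h1, Finset.prod_insert hi,
      mul_comm (L.relIndex (H i))]
    exact Nat.mul_le_mul ih (relIndex_le_of_le_left le_sup_left (relIndex_ne_zero _ _))

/-- The index in a nilpotent invariant subgroup is bounded by the indices in the fixed-point subgroups. -/
theorem relIndex_le_prod (h : Act q A X) [Fintype {B : Subgroup Γ // Cor q A 1 B}] {K : Subgroup Γ} (hK : K ≤ X)
    (hAK : A ≤ normalizer (K : Set Γ)) (hnil : ∃ n, K.lowerCentralSeries n = ⊥) :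
    ∀ L : Subgroup Γ, L ≤ K → A ≤ normalizer (L : Set Γ) → K ≤ normalizer (L : Set Γ) →
      L.relIndex K ≤ ∏ B : {B : Subgroup Γ // Cor q A 1 B}, L.relIndex (K ⊓ C B.1) := by
  classical
  intro L
  induction hm : L.relIndex K using Nat.strong_induction_on generalizing L with
  | _ m ih =>
  intro hLK hAL hKL
  subst hm
  by_cases hKle : K ≤ L
  · rw [relIndex_eq_one.mpr hKle]
    exact Finset.one_le_prod' fun B _ => Nat.one_le_iff_ne_zero.mpr (relIndex_ne_zero _ _)
  have hex : ∃ j, K.lowerCentralSeries j ≤ L := hnil.imp fun n hn => hn.trans_le bot_le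
  obtain ⟨j, hj1, hj2⟩ : ∃ j, ¬ K.lowerCentralSeries j ≤ L ∧ K.lowerCentralSeries (j + 1) ≤ L := by
    have h0 : Nat.find hex ≠ 0 := fun e => hKle (by
      have := Nat.find_spec hex
      rwa [e, Subgroup.lowerCentralSeries_zero] at this)
    obtain ⟨j, hj⟩ := Nat.exists_eq_succ_of_ne_zero h0
    exact ⟨j, Nat.find_min hex (by omega), (congrArg K.lowerCentralSeries hj).symm.trans_le (Nat.find_spec hex)⟩
  set γ := K.lowerCentralSeries j with hγ
  set L₁ := L ⊔ γ with hL₁
  have hγK : γ ≤ K := Subgroup.lowerCentralSeries_le_self K j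
  have hL₁K : L₁ ≤ K := sup_le hLK hγK
  have hnorm : ∀ {g : Γ}, g ∈ normalizer (K : Set Γ) → g ∈ normalizer (L : Set Γ) →
      g ∈ normalizer (L₁ : Set Γ) := fun {g} h1 h2 => by
    have h3 := (fn_lcs (Γ := Γ) j).conj K h1
    rw [mem_normalizer_iff_map_conj_eq] at h2 h3 ⊢
    rw [hL₁, Subgroup.map_sup, h2, h3]
  have hAL₁ : A ≤ normalizer (L₁ : Set Γ) := fun a ha => hnorm (hAK ha) (hAL ha)
  have hKL₁ : K ≤ normalizer (L₁ : Set Γ) := fun a ha => hnorm (le_normalizer ha) (hKL ha)
  have hcomm : ⁅L₁, K⁆ ≤ L := by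
    rw [Subgroup.commutator_le]
    intro x hx k hk
    have hmul : (↑(L ⊔ γ) : Set Γ) = (L : Set Γ) * (γ : Set Γ) :=
      coe_mul_of_right_le_normalizer_left L γ (hγK.trans hKL)
    rw [hL₁, ← SetLike.mem_coe, hmul] at hx
    obtain ⟨l, hl, g, hg, rfl⟩ := hx
    have h1 : ⁅g, k⁆ ∈ L := hj2 (by rw [Subgroup.lowerCentralSeries_succ]; exact commutator_mem_commutator hg hk)
    have h2 : ⁅l, k⁆ ∈ L :=
      le_normalizer_iff_commutator_le_left.mp hKL (commutator_mem_commutator hl hk)
    have e : ⁅l * g, k⁆ = l * ⁅g, k⁆ * l⁻¹ * ⁅l, k⁆ := by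
      simp only [commutatorElement_def]
      group
    rw [show (fun a b => a * b) l g = l * g from rfl, e]
    exact mul_mem (mul_mem (mul_mem hl h1) (inv_mem hl)) h2
  have hlt : L₁.relIndex K < L.relIndex K := by
    have h1 : 2 ≤ L.relIndex L₁ := by
      by_contra h2
      have := relIndex_ne_zero L L₁
      exact hj1 (le_sup_right.trans (relIndex_eq_one.mp (show L.relIndex L₁ = 1 by omega)))
    rw [← relIndex_mul_relIndex L L₁ K le_sup_left hL₁K]
    have := Nat.pos_of_ne_zero (relIndex_ne_zero L₁ K)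
    nlinarith
  have h2 := ih _ hlt L₁ rfl hL₁K hAL₁ hKL₁
  have hgen : L₁ = L ⊔ (Finset.univ : Finset {B : Subgroup Γ // Cor q A 1 B}).sup fun B => L₁ ⊓ C B.1 := by
    refine le_antisymm ?_ (sup_le le_sup_left (Finset.sup_le fun B _ => inf_le_left))
    refine le_trans ((h.gen_hyper (hL₁K.trans hK) hAL₁).trans ?_) le_sup_right
    exact iSup_le fun B => Finset.le_sup (f := fun B : {B : Subgroup Γ // Cor q A 1 B} => L₁ ⊓ C B.1)
      (Finset.mem_univ B)
  have h3 : L.relIndex L₁ ≤ ∏ B : {B : Subgroup Γ // Cor q A 1 B}, L.relIndex (L₁ ⊓ C B.1) := by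
    conv_lhs => rw [hgen]
    exact relIndex_sup_le _ le_sup_left (fun B => inf_le_left) ((commutator_mono le_rfl hL₁K).trans hcomm) _
  rw [← relIndex_mul_relIndex L L₁ K le_sup_left hL₁K]
  refine (Nat.mul_le_mul h3 h2).trans (le_of_eq ?_)
  rw [← Finset.prod_mul_distrib]
  refine Finset.prod_congr rfl fun B _ => ?_
  have a1 : L.relIndex (L₁ ⊓ C B.1) = (L ⊓ C B.1).relIndex (L₁ ⊓ C B.1) := by
    rw [← inf_relIndex_right, ← inf_relIndex_right (L ⊓ C B.1)]
    congr 1
    rw [inf_assoc, inf_left_comm (C B.1), inf_idem]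
  have a2 : ∀ M : Subgroup Γ, M ≤ K → M.relIndex (K ⊓ C B.1) = (M ⊓ C B.1).relIndex (K ⊓ C B.1) :=
    fun M hM => by
      rw [← inf_relIndex_right, ← inf_assoc, inf_eq_left.mpr hM]
  rw [a1, a2 L₁ hL₁K, a2 L hLK,
    relIndex_mul_relIndex _ _ _ (inf_le_inf_right _ le_sup_left) (inf_le_inf_right _ hL₁K)]

theorem card_cor_le : Nat.card {B : Subgroup Γ // Cor q A 1 B} ≤ 2 ^ Nat.card A := by
  classical
  have : Nat.card (↥A → Bool) = 2 ^ Nat.card A := by simp [Nat.card_fun]
  rw [← this]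
  refine Nat.card_le_card_of_injective (fun B a => decide ((a : Γ) ∈ B.1)) fun B B' e => ?_
  refine Subtype.ext (SetLike.ext fun x => ⟨fun hx => ?_, fun hx => ?_⟩)
  · exact of_decide_eq_true ((congrFun e ⟨x, B.2.1 hx⟩).symm.trans (decide_eq_true hx))
  · exact of_decide_eq_true ((congrFun e ⟨x, B'.2.1 hx⟩).trans (decide_eq_true hx))

/-- The bound for the index of the centralizer of the derived subgroup. -/
def idxBound (q m : ℕ) : ℕ :=
  ((((q ^ 3 * m) ^ (q ^ 3 * m)) ^ 2 ^ q ^ 3) ^ ((q ^ 3 * m) ^ (q ^ 3 * m) + 1))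

/-- The bound for the derived subgroup. -/
def bound (q m : ℕ) : ℕ :=
  idxBound q m ^ (idxBound q m * idxBound q m ^ 2 + 1) * m ^ (q ^ 3 * m)

section

variable (h : Act q A X) (hA : Nat.card A = q ^ 3) (hXA : X ⊔ A = ⊤) {m : ℕ}
  (hm : ∀ a ∈ A, a ≠ 1 → Nat.card ↥⁅X ⊓ C (zpowers a), X ⊓ C (zpowers a)⁆ ≤ m)

include h hA hXA hm

theorem card_derived_le : Nat.card ↥⁅X, X⁆ ≤ bound q m := by
  classical
  haveI := Fintype.ofFinite {B : Subgroup Γ // Cor q A 1 B}
  haveI := h.normal
  haveI := Fintype.ofFinite ↥A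
  obtain ⟨a₀, ha₀, ha₀1⟩ : ∃ a ∈ A, a ≠ 1 := by
    by_contra! hne
    have : A = ⊥ := (Subgroup.eq_bot_iff_forall A).mpr hne
    rw [this, card_bot] at hA
    have := Nat.one_lt_pow (show 3 ≠ 0 by norm_num) h.prime.one_lt
    omega
  have hm1 : 1 ≤ m := le_trans Nat.card_pos (hm a₀ ha₀ ha₀1)
  set N := q ^ 3 * m with hN
  have hN1 : 1 ≤ N := Nat.one_le_iff_ne_zero.mpr (Nat.mul_ne_zero (pow_ne_zero _ h.prime.ne_zero) (by omega))
  let K : {a : ↥A // a ≠ 1} → Subgroup Γ := fun a => ⁅X ⊓ C (zpowers (a.1 : Γ)), X ⊓ C (zpowers (a.1 : Γ))⁆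
  set T : Set Γ := Set.range fun t : Σ a : {a : ↥A // a ≠ 1}, ↥(K a) => (t.2 : Γ) with hT
  have hTcard : Nat.card T ≤ N := by
    refine (Finite.card_range_le _).trans ?_
    rw [Nat.card_sigma]
    calc ∑ a : {a : ↥A // a ≠ 1}, Nat.card ↥(K a) ≤ ∑ _a : {a : ↥A // a ≠ 1}, m :=
          Finset.sum_le_sum fun a _ => hm _ a.1.2 fun e => a.2 (Subtype.ext e)
      _ = Fintype.card {a : ↥A // a ≠ 1} * m := by simp
      _ ≤ N := Nat.mul_le_mul_right m (by rw [← hA, Nat.card_eq_fintype_card]; exact Fintype.card_subtype_le _)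
  have hTX : ∀ t ∈ T, t ∈ ⁅X, X⁆ := by
    rintro _ ⟨⟨a, t, ht⟩, rfl⟩
    exact commutator_mono inf_le_left inf_le_left ht
  have pair : ∀ {B B' : Subgroup Γ}, Cor q A 1 B → Cor q A 1 B' → ∀ {x y : Γ}, x ∈ X ⊓ C B → y ∈ X ⊓ C B' →
      ⁅x, y⁆ ∈ T := by
    intro B B' hB hB' x y hx hy
    obtain ⟨c, hc1⟩ := (Subgroup.ne_bot_iff_exists_ne_one.mp
      ((hB.inf hB').ne_bot h.prime hA (by norm_num)))
    have hcA : (c : Γ) ∈ A := hB.1 c.2.1
    have hz : ∀ {D : Subgroup Γ}, (c : Γ) ∈ D → ∀ {z : Γ}, z ∈ X ⊓ C D → z ∈ X ⊓ C (zpowers (c : Γ)) :=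
      fun hcD _ hz => ⟨hz.1, C_anti (zpowers_le.mpr hcD) hz.2⟩
    exact ⟨⟨⟨⟨c, hcA⟩, fun e => hc1 (Subtype.ext (congrArg Subtype.val e : _))⟩,
      ⟨⁅x, y⁆, commutator_mem_commutator (hz c.2.1 hx) (hz c.2.2 hy)⟩⟩, rfl⟩
  set U : Set Γ := {u ∈ T | ∃ B : {B : Subgroup Γ // Cor q A 1 B}, u ∈ X ⊓ C B.1} with hU
  have hUcard : Nat.card U ≤ N := (Nat.card_mono T.toFinite (Set.sep_subset _ _)).trans hTcard
  set M := closure U with hM
  have hTM : T ⊆ M := by
    rintro _ ⟨⟨a, t, ht⟩, rfl⟩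
    have hKX : K a ≤ X := (Subgroup.commutator_le.mpr fun x hx y hy => by
      rw [commutatorElement_def]
      exact mul_mem (mul_mem (mul_mem hx.1 hy.1) (inv_mem hx.1)) (inv_mem hy.1))
    have hAa : A ≤ normalizer ((X ⊓ C (zpowers (a.1 : Γ)) : Subgroup Γ) : Set Γ) := fun b hb => by
      have h1 := h.A_le_normalizer_C (zpowers_le.mpr a.1.2) hb
      have h2 := normal_le_normalizer (K := A) h.normal hb
      rw [mem_normalizer_iff_map_conj_eq] at h1 h2 ⊢
      rw [Subgroup.map_inf _ _ _ (MulEquiv.injective _), h1, h2]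
    refine (h.gen_hyper hKX fun b hb => normalizer_commutator (hAa hb) (hAa hb)).trans ?_ ht
    exact iSup_le fun B u hu => Subgroup.subset_closure
      ⟨⟨⟨a, u, hu.1⟩, rfl⟩, B, hKX hu.1, hu.2⟩
  have hgenX : X ≤ ⨆ B : {B : Subgroup Γ // Cor q A 1 B}, X ⊓ C B.1 :=
    h.gen_hyper le_rfl (normal_le_normalizer h.normal)
  have hXM : X ≤ normalizer (M : Set Γ) := by
    refine hgenX.trans (iSup_le fun B y hy => ?_)
    rw [mem_normalizer_iff_map_conj_eq]
    refine Subgroup.eq_of_le_of_card_ge ?_ ?_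
    · rw [hM, MonoidHom.map_closure, closure_le]
      rintro _ ⟨u, hu, rfl⟩
      obtain ⟨B', hu'⟩ := hu.2
      suffices hmem : ⁅y, u⁆ * u ∈ closure U by
        simpa [commutatorElement_def] using hmem
      exact mul_mem (hTM (pair B.2 B'.2 hy hu')) (Subgroup.subset_closure hu)
    · rw [Subgroup.card_map_of_injective (MulEquiv.injective _)]
  have hMn : M.Normal := by
    rw [← Subgroup.normalizer_eq_top_iff, eq_top_iff, ← hXA]
    refine sup_le hXM fun b hb => ?_
    rw [mem_normalizer_iff_map_conj_eq]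
    refine Subgroup.eq_of_le_of_card_ge ?_ (by rw [Subgroup.card_map_of_injective (MulEquiv.injective _)])
    rw [hM, MonoidHom.map_closure, closure_le]
    rintro _ ⟨u, ⟨⟨⟨a, t, ht⟩, rfl⟩, -⟩, rfl⟩
    refine hTM ⟨⟨a, ⟨_, ?_⟩⟩, rfl⟩
    have hAa : b ∈ normalizer ((X ⊓ C (zpowers (a.1 : Γ)) : Subgroup Γ) : Set Γ) := by
      have h1 := h.A_le_normalizer_C (zpowers_le.mpr a.1.2) hb
      have h2 := normal_le_normalizer (K := A) h.normal hb
      rw [mem_normalizer_iff_map_conj_eq] at h1 h2 ⊢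
      rw [Subgroup.map_inf _ _ _ (MulEquiv.injective _), h1, h2]
    exact (mem_normalizer_iff.mp (normalizer_commutator hAa hAa) t).mp ht
  have hMX : M ≤ ⁅X, X⁆ := (closure_le _).mpr fun u hu => hTX u hu.1
  have hXXM : ⁅X, X⁆ ≤ M := by
    refine (commutator_mono hgenX le_rfl).trans (comm_iSup_le fun B => ?_)
    rw [Subgroup.commutator_comm]
    refine (commutator_mono hgenX le_rfl).trans (comm_iSup_le fun B' => ?_)
    rw [Subgroup.commutator_le]
    exact fun x hx y hy => hTM (pair B'.2 B.2 hx hy)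
  have hMeq : ⁅X, X⁆ = M := le_antisymm hXXM hMX
  set D := X ⊓ centralizer (M : Set Γ) with hD
  have hDn : D.Normal := inferInstanceAs (X ⊓ centralizer (M : Set Γ)).Normal
  -- the fixed points of a subgroup of index at most `q` have bounded index over the centralizer
  set n₀ := N ^ N with hn₀
  have hn₀1 : 1 ≤ n₀ := Nat.one_le_pow _ _ hN1
  have hfix : ∀ B : {B : Subgroup Γ // Cor q A 1 B}, D.relIndex (X ⊓ C B.1) ≤ n₀ := by
    intro B
    let f : ↥(X ⊓ C B.1) → (↥U → T) := fun y u => ⟨⁅(y : Γ), (u : Γ)⁆,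
      pair B.2 u.2.2.choose.2 y.2 u.2.2.choose_spec⟩
    have hinj : ∀ y z : ↥(X ⊓ C B.1), f y = f z → (y : Γ)⁻¹ * z ∈ D := by
      intro y z e
      refine Subgroup.mem_inf.mpr ⟨mul_mem (inv_mem y.2.1) z.2.1, ?_⟩
      rw [hM, centralizer_closure, mem_centralizer_iff]
      intro u hu
      have e' : ⁅(y : Γ), u⁆ = ⁅(z : Γ), u⁆ := congrArg Subtype.val (congrFun e ⟨u, hu⟩)
      simp only [commutatorElement_def] at e'
      have e2 : (y : Γ) * u * (y : Γ)⁻¹ = z * u * (z : Γ)⁻¹ := mul_right_cancel e'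
      calc u * ((y : Γ)⁻¹ * z) = (y : Γ)⁻¹ * (y * u * (y : Γ)⁻¹) * z := by group
        _ = (y : Γ)⁻¹ * z * u := by rw [e2]; group
    have h1 : Nat.card (↥(X ⊓ C B.1) ⧸ D.subgroupOf (X ⊓ C B.1)) ≤ Nat.card (↥U → T) := by
      refine Nat.card_le_card_of_injective (fun c => f c.out) fun c c' e => ?_
      rw [← c.out_eq', ← c'.out_eq', QuotientGroup.eq, mem_subgroupOf]
      exact hinj _ _ e
    refine h1.trans ?_
    rw [Nat.card_fun]
    exact (Nat.pow_le_pow_left hTcard _).trans (Nat.pow_le_pow_right hN1 hUcard)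
  -- hence the centralizer of the derived subgroup has bounded index
  have hidx : D.relIndex X ≤ idxBound q m := by
    set i := D.relIndex X with hi
    have hi0 : i ≠ 0 := relIndex_ne_zero _ _
    have key : ∀ r ∈ i.primeFactors, r ≤ n₀ ∧ r ^ i.factorization r ≤ n₀ ^ 2 ^ q ^ 3 := by
      intro r hr
      have hrp := Nat.prime_of_mem_primeFactors hr
      haveI := Fact.mk hrp
      have hAX : A ≤ normalizer (X : Set Γ) := normal_le_normalizer h.normal
      obtain ⟨P, hP⟩ := CfsgLib.coprime_exists_invariant_sylow hAX (h.card_coprime le_rfl le_rfl)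
        (Or.inl (h.solvable_le le_rfl)) r
      set Q := (P : Subgroup X).map X.subtype with hQ
      have hQX : Q ≤ X := map_subtype_le _
      have hQcard : Nat.card Q = r ^ (Nat.card X).factorization r := by
        rw [hQ, Subgroup.card_map_of_injective (subtype_injective X), P.card_eq_multiplicity]
      have hQp : IsPGroup r Q := IsPGroup.of_card hQcard
      have hnil : ∃ n, Q.lowerCentralSeries n = ⊥ := by
        obtain ⟨n, hn⟩ := Subgroup.nilpotent_iff_lowerCentralSeries.mp hQp.isNilpotent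
        exact ⟨n, by
          have := congrArg (Subgroup.map Q.subtype) hn
          rwa [Subgroup.map_lowerCentralSeries, ← MonoidHom.range_eq_map, range_subtype, Subgroup.map_bot]
            at this⟩
      have hb := relIndex_le_prod h hQX hP hnil (D ⊓ Q) inf_le_right
        (fun a ha => by
          have h1 := normal_le_normalizer (K := A) hDn ha
          have h2 := hP ha
          rw [mem_normalizer_iff_map_conj_eq] at h1 h2 ⊢
          rw [Subgroup.map_inf _ _ _ (MulEquiv.injective _), h1, h2])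
        (fun a ha => by
          have h1 := normal_le_normalizer (K := Q) hDn ha
          have h2 := le_normalizer (H := Q) ha
          rw [mem_normalizer_iff_map_conj_eq] at h1 h2 ⊢
          rw [Subgroup.map_inf _ _ _ (MulEquiv.injective _), h1, h2])
      rw [inf_relIndex_right] at hb
      have hfac : ∀ B : {B : Subgroup Γ // Cor q A 1 B}, (D ⊓ Q).relIndex (Q ⊓ C B.1) ≤ n₀ := fun B => by
        have e : (D ⊓ Q).relIndex (Q ⊓ C B.1) = D.relIndex (Q ⊓ C B.1) := by
          rw [← inf_relIndex_right, ← inf_relIndex_right D, inf_assoc, ← inf_assoc Q, inf_idem]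
        rw [e]
        exact (relIndex_le_of_le_right (inf_le_inf_right _ hQX) (relIndex_ne_zero _ _)).trans (hfix B)
      -- the power of `r` in the index is the index in the Sylow subgroup
      have hpow : r ^ i.factorization r ∣ D.relIndex Q := by
        have e1 : Nat.card D * i = Nat.card X := by
          rw [hi, relIndex, ← Nat.card_congr (subgroupOfEquivOfLe (inf_le_left : D ≤ X)).toEquiv,
            card_mul_index]
        have e2 : Nat.card ↥(D ⊓ Q) * D.relIndex Q = Nat.card Q := by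
          rw [← inf_relIndex_right, relIndex,
            ← Nat.card_congr (subgroupOfEquivOfLe (inf_le_right : D ⊓ Q ≤ Q)).toEquiv, card_mul_index]
        obtain ⟨t, ht⟩ := IsPGroup.iff_card.mp (hQp.to_le (inf_le_right : D ⊓ Q ≤ Q))
        have htD : t ≤ (Nat.card D).factorization r :=
          (hrp.pow_dvd_iff_le_factorization Nat.card_pos.ne').mp
            (ht ▸ card_dvd_of_le (inf_le_left : D ⊓ Q ≤ D))
        have hfX : (Nat.card X).factorization r = (Nat.card D).factorization r + i.factorization r := by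
          rw [← e1, Nat.factorization_mul Nat.card_pos.ne' hi0, Finsupp.add_apply]
        refine (Nat.mul_dvd_mul_iff_left (pow_pos hrp.pos t)).mp ?_
        calc r ^ t * r ^ i.factorization r = r ^ (t + i.factorization r) := (pow_add _ _ _).symm
          _ ∣ r ^ (Nat.card X).factorization r := pow_dvd_pow r (by omega)
          _ = r ^ t * D.relIndex Q := by rw [← ht, e2, hQcard]
      have hle := Nat.le_of_dvd (Nat.pos_of_ne_zero (relIndex_ne_zero D Q)) hpow
      refine ⟨?_, (hle.trans hb).trans ?_⟩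
      · by_contra hlt
        rw [not_le] at hlt
        have h1 : ∀ B : {B : Subgroup Γ // Cor q A 1 B}, (D ⊓ Q).relIndex (Q ⊓ C B.1) = 1 := fun B => by
          obtain ⟨s, hs⟩ := (hQp.to_le (inf_le_left : Q ⊓ C B.1 ≤ Q)).index ((D ⊓ Q).subgroupOf (Q ⊓ C B.1))
          rcases s with _ | s
          · exact hs.trans (pow_zero r)
          · have h2 : r ^ (s + 1) ≤ n₀ := hs ▸ hfac B
            have h3 : r ≤ r ^ (s + 1) := Nat.le_self_pow (by omega) r
            omega
        rw [Finset.prod_eq_one fun B _ => h1 B] at hb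
        have h4 : r ≤ r ^ i.factorization r :=
          Nat.le_self_pow (hrp.factorization_pos_of_dvd hi0 (Nat.dvd_of_mem_primeFactors hr)).ne' r
        have := hrp.two_le
        omega
      · refine (Finset.prod_le_pow_card _ _ n₀ fun B _ => hfac B).trans (Nat.pow_le_pow_right hn₀1 ?_)
        rw [Finset.card_univ, ← Nat.card_eq_fintype_card, ← hA]
        exact card_cor_le
    calc i = ∏ r ∈ i.primeFactors, r ^ i.factorization r := (Nat.prod_factorization_pow_eq_self hi0).symm
      _ ≤ (n₀ ^ 2 ^ q ^ 3) ^ i.primeFactors.card := Finset.prod_le_pow_card _ _ _ fun r hr => (key r hr).2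
      _ ≤ idxBound q m := by
          refine Nat.pow_le_pow_right (Nat.one_le_pow _ _ hn₀1) ?_
          calc i.primeFactors.card ≤ (Finset.range (n₀ + 1)).card :=
                Finset.card_le_card fun r hr => Finset.mem_range.mpr (Nat.lt_succ_of_le (key r hr).1)
            _ = n₀ + 1 := Finset.card_range _
  -- the centre and the abelianisation of the derived subgroup
  have hz : (center ↥M).index ≤ idxBound q m := by
    refine le_trans (Nat.le_of_dvd (Nat.pos_of_ne_zero index_ne_zero_of_finite) (index_dvd_of_le ?_))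
      ((relIndex_le_of_le_right (show M ≤ X from hMX.trans
        (Subgroup.commutator_le_right X X)) (relIndex_ne_zero _ _)).trans hidx)
    intro x hx
    rw [mem_center_iff]
    exact fun y => Subtype.ext (mem_centralizer_iff.mp (mem_subgroupOf.mp hx).2 y y.2)
  have hcs : Nat.card (commutatorSet ↥M) ≤ (center ↥M).index ^ 2 := by
    have e : commutatorSet ↥M ⊆
        Set.range fun t : (↥M ⧸ center ↥M) × (↥M ⧸ center ↥M) => ⁅t.1.out, t.2.out⁆ := by
      rintro _ ⟨x, y, rfl⟩
      refine ⟨(QuotientGroup.mk x, QuotientGroup.mk y), ?_⟩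
      obtain ⟨z, hz⟩ := QuotientGroup.mk_out_eq_mul (center ↥M) x
      obtain ⟨w, hw⟩ := QuotientGroup.mk_out_eq_mul (center ↥M) y
      simp only [hz, hw, commutatorElement_def, mul_inv_rev]
      have hz' := mem_center_iff.mp z.2
      have hw' := mem_center_iff.mp w.2
      calc x * ↑z * (y * ↑w) * ((↑z)⁻¹ * x⁻¹) * ((↑w)⁻¹ * y⁻¹)
          = x * (↑z * (y * ↑w)) * (↑z)⁻¹ * x⁻¹ * ((↑w)⁻¹ * y⁻¹) := by group
        _ = x * ((y * ↑w) * ↑z) * (↑z)⁻¹ * x⁻¹ * ((↑w)⁻¹ * y⁻¹) := by rw [hz' (y * ↑w)]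
        _ = x * y * (↑w * x⁻¹) * (↑w)⁻¹ * y⁻¹ := by group
        _ = x * y * (x⁻¹ * ↑w) * (↑w)⁻¹ * y⁻¹ := by rw [hw' x⁻¹]
        _ = x * y * x⁻¹ * y⁻¹ := by group
    refine ((Nat.card_mono (Set.finite_range _) e).trans (Finite.card_range_le _)).trans (le_of_eq ?_)
    rw [Nat.card_prod, ← index_eq_card, sq]
  have hder : Nat.card (_root_.commutator ↥M) ≤ idxBound q m ^ (idxBound q m * idxBound q m ^ 2 + 1) := by
    have h1 := card_commutator_dvd_index_center_pow ↥M
    have hi1 : 1 ≤ (center ↥M).index := Nat.one_le_iff_ne_zero.mpr index_ne_zero_of_finite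
    refine (Nat.le_of_dvd (by positivity) h1).trans ((Nat.pow_le_pow_left hz _).trans
      (Nat.pow_le_pow_right (hi1.trans hz) ?_))
    gcongr
    exact hcs.trans (Nat.pow_le_pow_left hz 2)
  have hab : ⁅M, M⁆.relIndex M ≤ m ^ N := by
    haveI := Fintype.ofFinite ↥U
    have hgen : M = ⁅M, M⁆ ⊔ (Finset.univ : Finset ↥U).sup fun u => zpowers (u : Γ) := by
      refine le_antisymm ((closure_le _).mpr fun u hu => mem_sup_right ?_) (sup_le ?_ ?_)
      · exact Finset.le_sup (f := fun u : ↥U => zpowers (u : Γ)) (Finset.mem_univ (⟨u, hu⟩ : ↥U))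
          (mem_zpowers u)
      · exact Subgroup.commutator_le_right M M
      · exact Finset.sup_le fun u _ => zpowers_le.mpr (Subgroup.subset_closure u.2)
    conv_lhs => arg 2; rw [hgen]
    refine (relIndex_sup_le (K := M) (fun u : ↥U => zpowers (u : Γ)) (Subgroup.commutator_le_right M M)
      (fun u => zpowers_le.mpr (Subgroup.subset_closure u.2)) le_rfl _).trans ?_
    refine (Finset.prod_le_pow_card _ _ m fun u _ => ?_).trans (Nat.pow_le_pow_right hm1 ?_)
    · obtain ⟨⟨a, t, ht⟩, e⟩ := u.2.1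
      calc ⁅M, M⁆.relIndex (zpowers (u : Γ)) ≤ Nat.card (zpowers (u : Γ)) :=
            Nat.le_of_dvd Nat.card_pos (index_dvd_card _)
        _ ≤ Nat.card ↥(K a) := Nat.le_of_dvd Nat.card_pos (card_dvd_of_le (zpowers_le.mpr (e ▸ ht)))
        _ ≤ m := hm _ a.1.2 fun e => a.2 (Subtype.ext e)
    · rw [Finset.card_univ, ← Nat.card_eq_fintype_card]
      exact hUcard
  rw [hMeq, ← card_mul_index (⁅M, M⁆.subgroupOf M), ← relIndex]
  refine Nat.mul_le_mul ?_ hab
  rw [Nat.card_congr (subgroupOfEquivOfLe (Subgroup.commutator_le_right M M)).toEquiv,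
    show Nat.card ↥⁅M, M⁆ = Nat.card (_root_.commutator ↥M) from ?_]
  · exact hder
  · rw [← Subgroup.map_subtype_commutator, Subgroup.card_map_of_injective (subtype_injective M)]

end

end CfsgLib.DerivedBound
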